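import Cfsg.Agent.CosetCert.SymSeven5040.FactsData
import Cfsg.Agent.CosetCert.SymSeven5040.JustData
import Cfsg.Agent.CosetCert.SymSeven5040.EdgeData
import Cfsg.Agent.CosetCert.SymSeven5040.RepData
import Cfsg.Agent.CosetCert.SymSeven5040.TreeData
import Cfsg.Prelude.Def_Spor_Fi24
import Cfsg.Agent.CosetCert.Cox
import Cfsg.Agent.CosetCert.Pack

/-! Generated: the certificate. -/

set_option maxRecDepth 100000

namespace Cfsg.Agent.CosetCert.SymSeven5040

noncomputable def data : Data where
  K := 6
  n := 5040
  M := 5039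
  Nf := 15120
  nR := 28
  iv := fun x => x
  F := get48 factStore
  J := getVar justStore
  E := get48 edgeStore
  L := get48 repStore
  P := get48 treeStore
  W := [

    [0, 0],
    [0, 1, 0, 1, 0, 1],
    [0, 2, 0, 2],
    [0, 3, 0, 3],
    [0, 4, 0, 4],
    [0, 5, 0, 5],
    [1, 1],
    [1, 2, 1, 2, 1, 2],
    [1, 3, 1, 3],
    [1, 4, 1, 4],
    [1, 5, 1, 5],
    [2, 2],
    [2, 3, 2, 3, 2, 3],
    [2, 4, 2, 4],
    [2, 5, 2, 5],
    [3, 3],
    [3, 4, 3, 4, 3, 4],
    [3, 5, 3, 5],
    [4, 4],
    [4, 5, 4, 5, 4, 5],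
    [5, 5],
    [],
    [0, 0],
    [1, 1],
    [2, 2],
    [3, 3],
    [4, 4],
    [5, 5]]
  PW := fun k => Nat.land (Nat.shiftRight 0x31800000a50000021000000630000010800000210000000000000c6314c531400000a5000c4310a4290a4000002100030cc3000a328c8320c830000018c00308c2000a22880020882188621880000042000c130400284a1000812040018461104411040000021 (Nat.mul 30 k)) 0x3fffffff
  powers := [

    ([0], 2),
    ([0, 1], 3),
    ([0, 2], 2),
    ([0, 3], 2),
    ([0, 4], 2),
    ([0, 5], 2),
    ([1], 2),
    ([1, 2], 3),
    ([1, 3], 2),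
    ([1, 4], 2),
    ([1, 5], 2),
    ([2], 2),
    ([2, 3], 3),
    ([2, 4], 2),
    ([2, 5], 2),
    ([3], 2),
    ([3, 4], 3),
    ([3, 5], 2),
    ([4], 2),
    ([4, 5], 3),
    ([5], 2),
    ([], 0),
    ([0], 2),
    ([1], 2),
    ([2], 2),
    ([3], 2),
    ([4], 2),
    ([5], 2)]

/-- The relators of the subgroup's presentation. -/
def relWords : List (List (Fin 6 × Bool)) := [
    [(0, true), (0, true)],
    [(0, true), (1, true), (0, true), (1, true), (0, true), (1, true)],
    [(0, true), (2, true), (0, true), (2, true)],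
    [(0, true), (3, true), (0, true), (3, true)],
    [(0, true), (4, true), (0, true), (4, true)],
    [(0, true), (5, true), (0, true), (5, true)],
    [(1, true), (1, true)],
    [(1, true), (2, true), (1, true), (2, true), (1, true), (2, true)],
    [(1, true), (3, true), (1, true), (3, true)],
    [(1, true), (4, true), (1, true), (4, true)],
    [(1, true), (5, true), (1, true), (5, true)],
    [(2, true), (2, true)],
    [(2, true), (3, true), (2, true), (3, true), (2, true), (3, true)],
    [(2, true), (4, true), (2, true), (4, true)],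
    [(2, true), (5, true), (2, true), (5, true)],
    [(3, true), (3, true)],
    [(3, true), (4, true), (3, true), (4, true), (3, true), (4, true)],
    [(3, true), (5, true), (3, true), (5, true)],
    [(4, true), (4, true)],
    [(4, true), (5, true), (4, true), (5, true), (4, true), (5, true)],
    [(5, true), (5, true)]]

/-- The subgroup's generators. -/
def subLetters : List (Fin 6) := []

/-- The numbering of the generators. -/
def enc (b : Fin 6) : Nat := b.val

/-- The generator of a number. -/
def dec (x : Nat) : Fin 6 × Bool := (Fin.ofNat 6 x, true)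

/-- The generators among those of the whole group. -/
def ren : Fin 6 → Cfsg.Spor.Fi24.Gen
  | ⟨0, _⟩ => .a
  | ⟨1, _⟩ => .b
  | ⟨2, _⟩ => .c
  | ⟨3, _⟩ => .d
  | ⟨4, _⟩ => .e
  | ⟨5, _⟩ => .f

end Cfsg.Agent.CosetCert.SymSeven5040
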